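import Cfsg.Agent.H791.E8L.Rel2
import Cfsg.Agent.H395.E83.Dim

/-!
# S5925 (helper791): from `Rel x y t` for linear equivalences to the Hecke form of helper879 / helper395; bounds 22
-/

set_option autoImplicit false
set_option linter.unusedSectionVars false

namespace Cfsg.Agent.H791.E8L

open Module

section

variable {K V : Type*} [Field K] [AddCommGroup V] [Module K V] {x y t : V ≃ₗ[K] V}

/-- the endomorphism of a linear equivalence -/
def toE (x : V ≃ₗ[K] V) : Module.End K V := (x : V →ₗ[K] V)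

theorem toE_mul (x y : V ≃ₗ[K] V) : toE (x * y) = toE x * toE y := rfl

theorem toE_one : toE (1 : V ≃ₗ[K] V) = 1 := rfl

theorem toE_pow (x : V ≃ₗ[K] V) (n : ℕ) : toE (x ^ n) = toE x ^ n := by
  induction n with
  | zero => rfl
  | succ n ih => rw [pow_succ, pow_succ, toE_mul, ih]

theorem toE_apply (x : V ≃ₗ[K] V) (v : V) : toE x v = x v := rfl

/-- the Hecke relations -/
theorem Rel.toEnd (h : Rel x y t) (h3 : (3 : K) = 0) : Cfsg.Agent.H879.E83.Rel (toE x) (toE y) (toE t) where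
  x11 := by rw [← toE_pow, h.x11, toE_one]
  y5 := by rw [← toE_pow, h.y5, toE_one]
  tt := by rw [← toE_mul, h.t2, toE_one]
  yx := by
    rw [← toE_mul, ← toE_pow, ← toE_mul]
    congr 1
    have h1 := h.y_pow 1
    rwa [pow_one, mul_one] at h1
  ty := by
    rw [← toE_mul, ← toE_pow, ← toE_mul]
    congr 1
    have h1 : t * y = y⁻¹ * t := by rw [← h.ty, mul_assoc _ t t, h.t2, mul_one]
    have h2 : y ^ 4 = y⁻¹ := by
      rw [eq_inv_iff_mul_eq_one, ← pow_succ, h.y5]
    rw [h1, h2]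
  txt := by
    rw [← toE_mul, ← toE_mul, ← toE_pow, ← toE_mul, ← toE_mul]
    congr 1
    have h2 : x ^ 10 = x⁻¹ := by
      rw [eq_inv_iff_mul_eq_one, ← pow_succ, h.x11]
    rw [h2]
    have h3 := h.xt
    rw [pow_succ, pow_two] at h3
    have h4 : x * (t * x * t) * (x * t) = 1 := by rw [← h3]; simp only [mul_assoc]
    have ht : t⁻¹ = t := inv_eq_of_mul_eq_one_right h.t2
    have h5 : t * x * t = x⁻¹ * (x * (t * x * t) * (x * t)) * (x * t)⁻¹ := by group
    rw [h5, h4, mul_inv_rev, ht]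
    group
  three := by
    ext v
    have h4 : (3 : Module.End K V) v = (3 : K) • v := by
      rw [show (3 : Module.End K V) = algebraMap K _ 3 from (map_ofNat _ 3).symm, Module.algebraMap_end_apply]
    rw [h4, h3, zero_smul]
    rfl

theorem xR_toE (x : V ≃ₗ[K] V) : Cfsg.Agent.H879.E83.xR (toE x) = XQ x := by
  have h1 : XQ x = toE (x ^ 1) + toE (x ^ 3) + toE (x ^ 4) + toE (x ^ 5) + toE (x ^ 9) := rfl
  rw [h1, Cfsg.Agent.H879.E83.xR]
  simp only [toE_pow, pow_one]

theorem xN_toE (x : V ≃ₗ[K] V) : Cfsg.Agent.H879.E83.xN (toE x) = XN x := by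
  have h1 : XN x = toE (x ^ 2) + toE (x ^ 6) + toE (x ^ 7) + toE (x ^ 8) + toE (x ^ 10) := rfl
  rw [h1, Cfsg.Agent.H879.E83.xN]
  simp only [toE_pow]

theorem partN_eq' [FiniteDimensional K V] (x y : V ≃ₗ[K] V) :
    Cfsg.Agent.H395.E83.partR (toE x) (toE y) = partN x y := by
  ext v
  rw [Cfsg.Agent.H395.E83.mem_partR, xN_toE]
  rfl

theorem partQ_eq' [FiniteDimensional K V] (x y : V ≃ₗ[K] V) :
    Cfsg.Agent.H395.E83.partN (toE x) (toE y) = partQ x y := by
  ext v
  rw [Cfsg.Agent.H395.E83.mem_partN, xR_toE]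
  rfl

/-- **bound 22 (Q)** -/
theorem Rel.partQ_le [FiniteDimensional K V] (h : Rel x y t) (h3 : (3 : K) = 0) (hM : finrank K V = 248)
    (hk : finrank K (LinearMap.ker (XN x)) = finrank K (LinearMap.ker (XQ x)))
    (h24 : 24 ≤ finrank K (LinearMap.ker (toE x - 1))) : finrank K (partQ x y) ≤ 22 := by
  rw [← partQ_eq']
  exact Cfsg.Agent.H395.E83.partN_le (h.toEnd h3) hM (by rw [xN_toE, xR_toE]; exact hk) h24

/-- **bound 22 (N)** -/
theorem Rel.partN_le [FiniteDimensional K V] (h : Rel x y t) (h3 : (3 : K) = 0) (hM : finrank K V = 248)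
    (hk : finrank K (LinearMap.ker (XN x)) = finrank K (LinearMap.ker (XQ x)))
    (h24 : 24 ≤ finrank K (LinearMap.ker (toE x - 1))) : finrank K (partN x y) ≤ 22 := by
  rw [← partN_eq']
  exact Cfsg.Agent.H395.E83.partR_le (h.toEnd h3) hM (by rw [xN_toE, xR_toE]; exact hk) h24

theorem fixB_le (x y : V ≃ₗ[K] V) : fixB x y ≤ LinearMap.ker (toE x - 1) := by
  intro v hv
  rw [LinearMap.mem_ker, LinearMap.sub_apply, sub_eq_zero]
  exact hv.1

/-- **`dim V^B ≥ 24` is impossible without fixed vectors** -/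
theorem Rel.no24 [FiniteDimensional K V] (h : Rel x y t) (h3 : (3 : K) = 0) (hM : finrank K V = 248)
    (hk : finrank K (LinearMap.ker (XN x)) = finrank K (LinearMap.ker (XQ x)))
    (h24 : 24 ≤ finrank K (fixB x y)) (hfix : ∀ u, x u = u → y u = u → t u = u → u = 0) : False := by
  have h1 := h.finrank_le h3 hfix
  have h2 := h.partQ_le h3 hM hk (h24.trans (Submodule.finrank_mono (fixB_le x y)))
  omega

/-- **`dim V^B ≥ 24` is impossible for `M₁₁`** (side Q) -/
theorem Rel.no24Q [FiniteDimensional K V] (h : Rel x y t) (h3 : (3 : K) = 0) (hM : finrank K V = 248)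
    (hk : finrank K (LinearMap.ker (XN x)) = finrank K (LinearMap.ker (XQ x)))
    (h24 : 24 ≤ finrank K (fixB x y)) (g : fixS x y t →ₗ[K] V)
    (hg : ∀ w, g w = 0 → w = 0) (hgp : ∀ w, g w ∈ partQ x y) (hgt : ∀ w, t (g w) = g w) : False := by
  have h1 := h.count h3 g hg hgp hgt
  have h2 := h.partQ_le h3 hM hk (h24.trans (Submodule.finrank_mono (fixB_le x y)))
  omega

/-- **`dim V^B ≥ 24` is impossible for `M₁₁`** (side N) -/
theorem Rel.no24N [FiniteDimensional K V] (h : Rel x y t) (h3 : (3 : K) = 0) (hM : finrank K V = 248)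
    (hk : finrank K (LinearMap.ker (XN x)) = finrank K (LinearMap.ker (XQ x)))
    (h24 : 24 ≤ finrank K (fixB x y)) (g : fixS x y t →ₗ[K] V)
    (hg : ∀ w, g w = 0 → w = 0) (hgp : ∀ w, g w ∈ partN x y) (hgt : ∀ w, t (g w) = g w) : False := by
  have h1 := h.countN h3 g hg hgp hgt
  have h2 := h.partN_le h3 hM hk (h24.trans (Submodule.finrank_mono (fixB_le x y)))
  omega

end

end Cfsg.Agent.H791.E8L
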