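import Cfsg.Agent.H114.E8L.Stmt
import Cfsg.Agent.H627.E8L.Fixed
import Cfsg.Agent.H791.E8L.Bridge

/-!
# S5925, box E (helper791): `BE`
-/

set_option autoImplicit false
set_option maxRecDepth 100000

namespace Cfsg.Agent.H791.E8L

open Module Matrix Cfsg Cfsg.Lie Cfsg.Agent.H238.E8 Cfsg.Agent.H114.E8L
open Cfsg.Agent.ChevalleyStructure Cfsg.Agent.ChevalleyStructure.Elts
open Cfsg.Agent.H992.E8X
open Cfsg.Agent.H395.E83 (adjR adjR_apply finrank_L finrank_halves)

/-- the relations in a ring of characteristic three -/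
theorem Rel.ring {G A : Type*} [Group G] [Ring A] {x y t : G} (h : Rel x y t) (f : G →* A) (h3 : (3 : A) = 0) :
    Cfsg.Agent.H879.E83.Rel (f x) (f y) (f t) where
  x11 := by rw [← map_pow, h.x11, map_one]
  y5 := by rw [← map_pow, h.y5, map_one]
  tt := by rw [← map_mul, h.t2, map_one]
  yx := by
    rw [← map_mul, ← map_pow, ← map_mul]
    congr 1
    have h1 := h.y_pow 1
    rwa [pow_one, mul_one] at h1
  ty := by
    rw [← map_mul, ← map_pow, ← map_mul]
    congr 1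
    have h1 : t * y = y⁻¹ * t := by rw [← h.ty, mul_assoc _ t t, h.t2, mul_one]
    have h2 : y ^ 4 = y⁻¹ := by
      rw [eq_inv_iff_mul_eq_one, ← pow_succ, h.y5]
    rw [h1, h2]
  txt := by
    rw [← map_mul, ← map_mul, ← map_pow, ← map_mul, ← map_mul]
    congr 1
    have h2 : x ^ 10 = x⁻¹ := by
      rw [eq_inv_iff_mul_eq_one, ← pow_succ, h.x11]
    rw [h2]
    have h3 := h.xt
    rw [pow_succ, pow_two] at h3
    have h4 : x * (t * x * t) * (x * t) = 1 := by rw [← h3]; simp only [mul_assoc]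
    have ht : t⁻¹ = t := inv_eq_of_mul_eq_one_right h.t2
    have h5 : t * x * t = x⁻¹ * (x * (t * x * t) * (x * t)) * (x * t)⁻¹ := by group
    rw [h5, h4, _root_.mul_inv_rev, ht]
    group
  three := h3

theorem three_end : (3 : Module.End (ZMod 3) L3) = 0 := by
  refine LinearMap.ext fun v => ?_
  have h4 : (3 : Module.End (ZMod 3) L3) v = (3 : ZMod 3) • v := by
    rw [show (3 : Module.End (ZMod 3) L3) = algebraMap (ZMod 3) _ 3 from (map_ofNat _ 3).symm,
      Module.algebraMap_end_apply]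
  rw [h4, show (3 : ZMod 3) = 0 from rfl, zero_smul]
  rfl

theorem rt2_mem : ∀ i j : Fin 5, i ≠ j → rt2 i j ∈ Cfsg.Agent.H627.E8L.R2 := by decide +kernel

theorem ph2_mem (A : SpecialLinearGroup (Fin 5) (ZMod 3)) :
    ((ph2 (ZMod 3) A : G3) : GL chevE8.Idx (ZMod 3)) ∈ Cfsg.Agent.H627.E8L.E2 (ZMod 3) hE8 := by
  refine tv_ind (fun A => ((ph2 (ZMod 3) A : G3) : GL chevE8.Idx (ZMod 3)) ∈ Cfsg.Agent.H627.E8L.E2 (ZMod 3) hE8)
    ?_ ?_ A
  · intro i j hij c
    rw [ph2_tv]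
    exact Subgroup.subset_closure ⟨_, rt2_mem i j hij, _, rfl⟩
  · intro A B hA hB
    rw [map_mul, Subgroup.coe_mul]
    exact Subgroup.mul_mem _ hA hB

/-- 24 dimensions fixed by `x₀`, `y₂` -/
theorem h24 : 24 ≤ finrank (ZMod 3) ↥(LinearMap.ker (adjR x0 - 1) ⊓ LinearMap.ker (adjR y2 - 1)) :=
  Cfsg.Agent.H627.E8L.h24 (ph2_mem _) (ph2_mem _)

/-- **box E** -/
theorem be : BE := by
  intro t h hNF
  exact Cfsg.Agent.H395.E83.fix_le (x := x0) (y := y2) (t := t) (h.ring adjR three_end) h.x11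
    (fun w h1 h2 h3 => hNF w h1 h2 h3) h24

end Cfsg.Agent.H791.E8L
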