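import Mathlib.LinearAlgebra.FiniteDimensional.Lemmas
import Mathlib.Algebra.Module.Equiv.Basic
import Mathlib.Tactic

/-!
# S5925, box D (helper791): `L₂(11)`-relations and vectors fixed by the Borel subgroup
-/

set_option autoImplicit false
set_option linter.unusedSectionVars false

namespace Cfsg.Agent.H791.E8L

/-- the relations -/
structure Rel {M : Type*} [Group M] (x y t : M) : Prop where
  x11 : x ^ 11 = 1
  y5 : y ^ 5 = 1
  t2 : t * t = 1
  xt : (x * t) ^ 3 = 1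
  yx : y * x * y⁻¹ = x ^ 3
  ty : t * y * t = y⁻¹

theorem Rel.map {M N : Type*} [Group M] [Group N] {x y t : M} (h : Rel x y t) (f : M →* N) :
    Rel (f x) (f y) (f t) where
  x11 := by rw [← map_pow, h.x11, map_one]
  y5 := by rw [← map_pow, h.y5, map_one]
  t2 := by rw [← map_mul, h.t2, map_one]
  xt := by rw [← map_mul, ← map_pow, h.xt, map_one]
  yx := by rw [← map_inv, ← map_mul, ← map_mul, h.yx, map_pow]
  ty := by rw [← map_mul, ← map_mul, h.ty, map_inv]

section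

variable {K V : Type*} [Field K] [AddCommGroup V] [Module K V] {x y t : V ≃ₗ[K] V}

/-- the sum of `x ^ i` over the nonzero squares modulo 11 -/
def XQ (x : V ≃ₗ[K] V) : V →ₗ[K] V :=
  ((x ^ 1 : V ≃ₗ[K] V) : V →ₗ[K] V) + ((x ^ 3 : V ≃ₗ[K] V) : V →ₗ[K] V) + ((x ^ 4 : V ≃ₗ[K] V) : V →ₗ[K] V) +
    ((x ^ 5 : V ≃ₗ[K] V) : V →ₗ[K] V) + ((x ^ 9 : V ≃ₗ[K] V) : V →ₗ[K] V)

/-- the sum of `x ^ i` over the nonsquares modulo 11 -/
def XN (x : V ≃ₗ[K] V) : V →ₗ[K] V :=
  ((x ^ 2 : V ≃ₗ[K] V) : V →ₗ[K] V) + ((x ^ 6 : V ≃ₗ[K] V) : V →ₗ[K] V) + ((x ^ 7 : V ≃ₗ[K] V) : V →ₗ[K] V) +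
    ((x ^ 8 : V ≃ₗ[K] V) : V →ₗ[K] V) + ((x ^ 10 : V ≃ₗ[K] V) : V →ₗ[K] V)

theorem XQ_apply (v : V) : XQ x v = (x ^ 1) v + (x ^ 3) v + (x ^ 4) v + (x ^ 5) v + (x ^ 9) v := rfl

theorem XN_apply (v : V) : XN x v = (x ^ 2) v + (x ^ 6) v + (x ^ 7) v + (x ^ 8) v + (x ^ 10) v := rfl

theorem pow_app (i j : ℕ) (v : V) : (x ^ i) ((x ^ j) v) = (x ^ (i + j)) v := by
  rw [pow_add]; rfl

theorem app_pow (j : ℕ) (v : V) : x ((x ^ j) v) = (x ^ (j + 1)) v := by
  rw [pow_succ']; rfl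

theorem pow_mod' (h : x ^ 11 = 1) (i : ℕ) (v : V) : (x ^ i) v = (x ^ (i % 11)) v := by
  rw [pow_eq_pow_mod i h]

/-- `y x ^ i = x ^ (3 i) y` -/
theorem Rel.y_pow {M : Type*} [Group M] {x y t : M} (h : Rel x y t) (i : ℕ) : y * x ^ i = x ^ (3 * i) * y := by
  rw [pow_mul, ← h.yx, conj_pow]
  group

theorem Rel.y_app (h : Rel x y t) (i : ℕ) (v : V) : y ((x ^ i) v) = (x ^ (3 * i)) (y v) :=
  congrArg (fun g : V ≃ₗ[K] V => g v) (h.y_pow i)

theorem Rel.tt (h : Rel x y t) (v : V) : t (t v) = v :=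
  congrArg (fun g : V ≃ₗ[K] V => g v) h.t2

/-- `y t = t y⁻¹` -/
theorem Rel.yt (h : Rel x y t) {v : V} (hy : y v = v) : y (t v) = t v := by
  have h1 : t * y⁻¹ = y * t := by
    rw [← h.ty, ← mul_assoc, ← mul_assoc, h.t2, one_mul]
  have h2 : y⁻¹ v = v := by
    have h3 : y⁻¹ (y v) = v := y.symm_apply_apply v
    rwa [hy] at h3
  have h4 : t (y⁻¹ v) = y (t v) := congrArg (fun g : V ≃ₗ[K] V => g v) h1
  rw [← h4, h2]

theorem Rel.y_w (h : Rel x y t) {v : V} (hy : y v = v) (i : ℕ) : y ((x ^ i) (t v)) = (x ^ (3 * i)) (t v) := by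
  rw [h.y_app, h.yt hy]

theorem Rel.base (h : Rel x y t) {v : V} (hx : x v = v) : t ((x ^ 1) (t v)) = (x ^ 10) (t v) := by
  have h1 : t * x ^ 1 * t * x = x ^ 10 * t := by
    have h2 : x * (t * x * t * x * t) = 1 := by
      have h3 := h.xt
      rw [pow_succ, pow_two] at h3
      rw [← h3]; simp only [mul_assoc]
    have h4 : x * x ^ 10 = 1 := by rw [← pow_succ', h.x11]
    have h5 : t * x * t * x * t = x ^ 10 := mul_left_cancel (h2.trans h4.symm)
    rw [← h5, pow_one]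
    rw [mul_assoc _ t t, h.t2, mul_one]
  have h6 : t ((x ^ 1) (t (x v))) = (x ^ 10) (t v) := congrArg (fun g : V ≃ₗ[K] V => g v) h1
  rwa [hx] at h6

theorem Rel.flip (h : Rel x y t) {v : V} {i j : ℕ} (hij : t ((x ^ i) (t v)) = (x ^ j) (t v)) :
    t ((x ^ j) (t v)) = (x ^ i) (t v) := by
  rw [← hij, h.tt]

theorem Rel.step (h : Rel x y t) {v : V} (hy : y v = v) {i j : ℕ} (hij : t ((x ^ i) (t v)) = (x ^ j) (t v)) :
    t ((x ^ (3 * i % 11)) (t v)) = (x ^ (4 * j % 11)) (t v) := by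
  rw [← pow_mod' h.x11, ← pow_mod' h.x11, ← h.y_w hy i]
  have h1 : t * y = y⁻¹ * t := by
    rw [← h.ty, mul_assoc _ t t, h.t2, mul_one]
  have h2 : t (y ((x ^ i) (t v))) = y⁻¹ (t ((x ^ i) (t v))) :=
    congrArg (fun g : V ≃ₗ[K] V => g ((x ^ i) (t v))) h1
  rw [h2, hij]
  have h3 : (x ^ j) (t v) = y ((x ^ (4 * j)) (t v)) := by
    rw [h.y_w hy, pow_mod' h.x11 (3 * (4 * j)), pow_mod' h.x11 j]
    congr 2
    omega
  rw [h3]
  exact y.symm_apply_apply _

/-- `t x ^ i t v = x ^ (-1/i) t v` -/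
theorem Rel.t_pow (h : Rel x y t) {v : V} (hx : x v = v) (hy : y v = v) {i j : ℕ} (hij : i * j % 11 = 10) :
    t ((x ^ i) (t v)) = (x ^ j) (t v) := by
  rw [pow_mod' h.x11 i, pow_mod' h.x11 j]
  have a1 := h.base hx
  have a2 := h.step hy a1
  have a3 := h.step hy a2
  have a4 := h.step hy a3
  have a5 := h.step hy a4
  have b1 := h.flip a1
  have b2 := h.flip a2
  have b3 := h.flip a3
  have b4 := h.flip a4
  have b5 := h.flip a5
  norm_num at a2 a3 a4 a5 b2 b3 b4 b5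
  have h1 : (i % 11) * (j % 11) % 11 = 10 := by rw [← Nat.mul_mod, hij]
  have h2 : i % 11 < 11 := Nat.mod_lt _ (by norm_num)
  have h3 : j % 11 < 11 := Nat.mod_lt _ (by norm_num)
  generalize i % 11 = i' at h1 h2 ⊢
  generalize j % 11 = j' at h1 h3 ⊢
  interval_cases i'
  · omega
  · obtain rfl : j' = 10 := by omega
    exact a1
  · obtain rfl : j' = 5 := by omega
    assumption
  · obtain rfl : j' = 7 := by omega
    assumption
  · obtain rfl : j' = 8 := by omega
    assumption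
  · obtain rfl : j' = 2 := by omega
    assumption
  · obtain rfl : j' = 9 := by omega
    assumption
  · obtain rfl : j' = 3 := by omega
    assumption
  · obtain rfl : j' = 4 := by omega
    assumption
  · obtain rfl : j' = 6 := by omega
    assumption
  · obtain rfl : j' = 1 := by omega
    exact b1

/-- the orbit sum -/
def sv (x t : V ≃ₗ[K] V) (v : V) : V := v + ∑ i ∈ Finset.range 11, (x ^ i) (t v)

/-- the orbit sum is fixed -/
theorem Rel.s_fix (h : Rel x y t) {v : V} (hx : x v = v) (hy : y v = v) :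
    x (sv x t v) = sv x t v ∧ y (sv x t v) = sv x t v ∧ t (sv x t v) = sv x t v := by
  have h0 : t ((x ^ 0) (t v)) = v := h.tt v
  refine ⟨?_, ?_, ?_⟩
  · simp only [sv, Finset.sum_range_succ, Finset.sum_range_zero, zero_add, map_add, hx, app_pow]
    rw [pow_mod' h.x11 (10 + 1)]
    norm_num only
    abel
  · simp only [sv, Finset.sum_range_succ, Finset.sum_range_zero, zero_add, map_add, hy, h.y_w hy]
    rw [pow_mod' h.x11 (3 * 4), pow_mod' h.x11 (3 * 5), pow_mod' h.x11 (3 * 6), pow_mod' h.x11 (3 * 7),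
      pow_mod' h.x11 (3 * 8), pow_mod' h.x11 (3 * 9), pow_mod' h.x11 (3 * 10)]
    norm_num only
    abel
  · simp only [sv, Finset.sum_range_succ, Finset.sum_range_zero, zero_add, map_add, h0]
    rw [h.t_pow hx hy (i := 1) (j := 10) (by norm_num), h.t_pow hx hy (i := 2) (j := 5) (by norm_num),
      h.t_pow hx hy (i := 3) (j := 7) (by norm_num), h.t_pow hx hy (i := 4) (j := 8) (by norm_num),
      h.t_pow hx hy (i := 5) (j := 2) (by norm_num), h.t_pow hx hy (i := 6) (j := 9) (by norm_num),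
      h.t_pow hx hy (i := 7) (j := 3) (by norm_num), h.t_pow hx hy (i := 8) (j := 4) (by norm_num),
      h.t_pow hx hy (i := 9) (j := 6) (by norm_num), h.t_pow hx hy (i := 10) (j := 1) (by norm_num)]
    have h1 : (x ^ 0) (t v) = t v := rfl
    rw [h1]
    abel

/-- `t` exchanges the two parts -/
theorem Rel.t_XQ (h : Rel x y t) {v : V} (hx : x v = v) (hy : y v = v) : t (XQ x (t v)) = XN x (t v) := by
  rw [XQ_apply, XN_apply]
  simp only [map_add]
  rw [h.t_pow hx hy (i := 1) (j := 10) (by norm_num), 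
      h.t_pow hx hy (i := 3) (j := 7) (by norm_num), h.t_pow hx hy (i := 4) (j := 8) (by norm_num),
      h.t_pow hx hy (i := 5) (j := 2) (by norm_num), 
      h.t_pow hx hy (i := 9) (j := 6) (by norm_num)]
  abel

theorem Rel.t_XN (h : Rel x y t) {v : V} (hx : x v = v) (hy : y v = v) : t (XN x (t v)) = XQ x (t v) := by
  rw [← h.t_XQ hx hy, h.tt]

/-- the map `v ↦ (1 + X_Q) t v` -/
def fv (x t : V ≃ₗ[K] V) : V →ₗ[K] V := (LinearMap.id + XQ x) ∘ₗ (t : V →ₗ[K] V)

theorem fv_apply (v : V) : fv x t v = t v + XQ x (t v) := rfl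

/-- if there are no common fixed vectors then `v ↦ (1 + X_Q) t v` is injective on the vectors fixed by `x`, `y` -/
theorem Rel.f_inj (h : Rel x y t) (h2 : (2 : K) ≠ 0)
    (hfix : ∀ u, x u = u → y u = u → t u = u → u = 0) {v : V} (hx : x v = v) (hy : y v = v)
    (hv : fv x t v = 0) : v = 0 := by
  refine hfix v hx hy ?_
  rw [fv_apply, XQ_apply] at hv
  have h0 : t ((x ^ 0) (t v)) = v := h.tt v
  have hA0 : (x ^ 0) (t v) + (x ^ 1) (t v) + (x ^ 3) (t v) + (x ^ 4) (t v) + (x ^ 5) (t v) + (x ^ 9) (t v) = 0 := by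
    rw [← hv]
    have h1 : (x ^ 0) (t v) = t v := rfl
    rw [h1]
    abel
  have hA2 : (x ^ 2) (t v) + (x ^ 3) (t v) + (x ^ 5) (t v) + (x ^ 6) (t v) + (x ^ 7) (t v) + (x ^ 0) (t v) = 0 := by
    have h1 := congrArg (fun u => (x ^ 2) u) hA0
    simp only [map_add, map_zero, pow_app] at h1
    norm_num only at h1
    rw [pow_mod' h.x11 11] at h1
    norm_num only at h1
    exact h1
  have hB2 : (x ^ 5) (t v) + (x ^ 7) (t v) + (x ^ 2) (t v) + (x ^ 9) (t v) + (x ^ 3) (t v) + v = 0 := by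
    have h1 := congrArg (fun u => t u) hA2
    simp only [map_add, map_zero, h0] at h1
    rw [h.t_pow hx hy (i := 2) (j := 5) (by norm_num), h.t_pow hx hy (i := 3) (j := 7) (by norm_num),
      h.t_pow hx hy (i := 5) (j := 2) (by norm_num), h.t_pow hx hy (i := 6) (j := 9) (by norm_num),
      h.t_pow hx hy (i := 7) (j := 3) (by norm_num)] at h1
    exact h1
  have hB7 : (x ^ 5) (t v) + (x ^ 6) (t v) + (x ^ 3) (t v) + (x ^ 2) v + (x ^ 1) (t v) + (x ^ 4) (t v) = 0 := by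
    have h1 := congrArg (fun u => (x ^ 7) u) hA0
    simp only [map_add, map_zero, pow_app] at h1
    norm_num only at h1
    rw [pow_mod' h.x11 11, pow_mod' h.x11 12, pow_mod' h.x11 16] at h1
    norm_num only at h1
    have h2 := congrArg (fun u => t u) h1
    simp only [map_add, map_zero, h0] at h2
    rw [h.t_pow hx hy (i := 7) (j := 3) (by norm_num), h.t_pow hx hy (i := 8) (j := 4) (by norm_num),
      h.t_pow hx hy (i := 10) (j := 1) (by norm_num), h.t_pow hx hy (i := 1) (j := 10) (by norm_num),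
      h.t_pow hx hy (i := 5) (j := 2) (by norm_num)] at h2
    have h3 := congrArg (fun u => (x ^ 2) u) h2
    simp only [map_add, map_zero, pow_app] at h3
    norm_num only at h3
    rw [pow_mod' h.x11 12] at h3
    norm_num only at h3
    rw [← h3]
  have hv2 : (x ^ 2) v = v := by
    rw [pow_two]
    change x (x v) = v
    rw [hx, hx]
  rw [hv2] at hB7
  have h5 : (2 : K) • ((x ^ 0) (t v) - v) = 0 := by
    linear_combination (norm := module) hA0 + hA2 - hB2 - hB7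
  rcases smul_eq_zero.1 h5 with h6 | h6
  · exact absurd h6 h2
  · exact sub_eq_zero.1 h6

/-- `y` fixes `f v` -/
theorem Rel.f_y (h : Rel x y t) {v : V} (hy : y v = v) : y (fv x t v) = fv x t v := by
  rw [fv_apply, XQ_apply]
  simp only [map_add, h.y_w hy, h.yt hy]
  rw [pow_mod' h.x11 (3 * 4), pow_mod' h.x11 (3 * 5), pow_mod' h.x11 (3 * 9)]
  norm_num only
  abel

/-- `X_Q (1 + X_Q) = 0` in characteristic three -/
theorem XQ_one_add (h3 : (3 : K) = 0) (h : x ^ 11 = 1) (v : V) : XQ x (v + XQ x v) = 0 := by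
  have h4 : ∀ u : V, (3 : K) • u = 0 := fun u => by rw [h3, zero_smul]
  rw [XQ_apply, XQ_apply]
  simp only [map_add, pow_app]
  norm_num only
  rw [pow_mod' h 12, pow_mod' h 13, pow_mod' h 14, pow_mod' h 18]
  norm_num only
  linear_combination (norm := module) h4 ((x ^ 1) v) + h4 ((x ^ 3) v) + h4 ((x ^ 4) v) + h4 ((x ^ 5) v) + h4 ((x ^ 9) v)
    + h4 ((x ^ 2) v) + h4 ((x ^ 6) v) + h4 ((x ^ 7) v) + h4 ((x ^ 8) v) + h4 ((x ^ 10) v)

theorem f_part (h3 : (3 : K) = 0) (h : x ^ 11 = 1) (v : V) : XQ x (fv x t v) = 0 :=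
  XQ_one_add h3 h (t v)

/-- the vectors fixed by `x` and `y` -/
def fixB (x y : V ≃ₗ[K] V) : Submodule K V where
  carrier := {v | x v = v ∧ y v = v}
  zero_mem' := ⟨map_zero _, map_zero _⟩
  add_mem' := fun {a b} ha hb => ⟨by rw [map_add, ha.1, hb.1], by rw [map_add, ha.2, hb.2]⟩
  smul_mem' := fun c a ha => ⟨by rw [map_smul, ha.1], by rw [map_smul, ha.2]⟩

/-- the quintic part of the vectors fixed by `y` -/
def partQ (x y : V ≃ₗ[K] V) : Submodule K V where
  carrier := {v | y v = v ∧ XQ x v = 0}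
  zero_mem' := ⟨map_zero _, map_zero _⟩
  add_mem' := fun {a b} ha hb => ⟨by rw [map_add, ha.1, hb.1], by rw [map_add, ha.2, hb.2, add_zero]⟩
  smul_mem' := fun c a ha => ⟨by rw [map_smul, ha.1], by rw [map_smul, ha.2, smul_zero]⟩

open Module in
/-- the count -/
theorem Rel.finrank_le [FiniteDimensional K V] (h : Rel x y t) (h3 : (3 : K) = 0)
    (hfix : ∀ u, x u = u → y u = u → t u = u → u = 0) : finrank K (fixB x y) ≤ finrank K (partQ x y) := by
  have h2 : (2 : K) ≠ 0 := by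
    intro h2
    have h4 : (1 : K) = 0 := by linear_combination h3 - h2
    exact one_ne_zero h4
  refine LinearMap.finrank_le_finrank_of_injective (f := (fv x t).restrict (p := fixB x y) (q := partQ x y)
    fun v hv => ⟨h.f_y hv.2, f_part h3 h.x11 v⟩) ?_
  intro v w hvw
  have h5 : fv x t ((v : V) - w) = 0 := by
    rw [map_sub, sub_eq_zero]
    exact congrArg Subtype.val hvw
  have h6 := (v - w).2
  have h7 : (v : V) - w = 0 := h.f_inj h2 hfix h6.1 h6.2 h5
  exact Subtype.ext (sub_eq_zero.1 h7)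

end

end Cfsg.Agent.H791.E8L
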